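import Groth.Agent.OrdResLib.Tensor
import Groth.Agent.PerfHomLib.Retract
import Groth.Agent.FinLFAnnLib.Main
import Mathlib.CategoryTheory.Sites.LocallyBijective

/-!
# Restriction of scalars along a locally free algebra preserves injectives
-/

set_option autoImplicit false
set_option linter.style.haveILetI false
set_option maxHeartbeats 800000
set_option backward.isDefEq.respectTransparency false
universe u

open CategoryTheory CategoryTheory.Limits AlgebraicGeometry TopologicalSpace Opposite
open scoped TensorProduct

noncomputable section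

namespace OrdResLib

variable {X : Scheme.{u}} (D : CAlg X)

/-- Freeness of the algebra on small affine opens. -/
theorem flat_sec (hA : FlatMod.IsFinLocFree (res D (SheafOfModules.unit D.A))) (x : X) :
    ∃ U : X.Opens, x ∈ U ∧ ∀ V : X.Opens, IsAffineOpen V → V ≤ U → Module.Flat Γ(X, V) (D.S (op V)) := by
  haveI : Coh.IsQCoh (res D (SheafOfModules.unit D.A)) := FinLFAnn.isQCoh_of_isFinLocFree hA
  obtain ⟨U, n, e, hx, he⟩ := ProjFormLib.exists_frame hA x
  refine ⟨U, hx, fun V hV hVU => ?_⟩
  have h := PerfHomLib.bijective_linearCombination_of_isFrame hV (he.res hVU)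
  let ψ : Γ(res D (SheafOfModules.unit D.A), V) →ₗ[Γ(X, V)] D.S (op V) :=
    { toFun := fun v => v
      map_add' := fun _ _ => rfl
      map_smul' := fun _ _ => rfl }
  exact Module.Flat.of_linearEquiv ((LinearEquiv.ofBijective _ h).trans
    (LinearEquiv.ofBijective ψ Function.bijective_id)).symm

/-- Sheafified extension of an injection is injective. -/
theorem mono_Tmap (hA : FlatMod.IsFinLocFree (res D (SheafOfModules.unit D.A))) {M N : X.Modules} (f : M ⟶ N)
    [Mono f] : Mono ((PresheafOfModules.sheafification (𝟙 D.A.obj)).map (Tmap D f)) := by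
  have hf : ∀ U : (Opens X)ᵒᵖ, Function.Injective (secLin f U) := fun U => by
    haveI : (SheafOfModules.forget X.ringCatSheaf).PreservesMonomorphisms :=
      Functor.preservesMonomorphisms_of_adjunction
        (PresheafOfModules.sheafificationAdjunction (𝟙 X.ringCatSheaf.obj))
    exact (ModuleCat.mono_iff_injective _).mp
      (inferInstanceAs (Mono ((PresheafOfModules.evaluation _ U).map ((SheafOfModules.forget _).map f))))
  haveI : Presheaf.IsLocallyInjective (Opens.grothendieckTopology X)
      ((PresheafOfModules.toPresheaf _).map (Tmap D f)) := by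
    constructor
    intro U z z' h x hx
    obtain ⟨U', hxU', hflat⟩ := flat_sec D hA x
    obtain ⟨V, hV, hxV, hVU⟩ := exists_isAffineOpen_mem_and_subset (x := x) (U := U.unop ⊓ U') ⟨hx, hxU'⟩
    refine ⟨V, homOfLE (le_trans hVU inf_le_left), ?_, hxV⟩
    haveI := hflat V hV (le_trans hVU inf_le_right)
    have hi : U ⟶ op V := (homOfLE (le_trans hVU inf_le_left)).op
    change tmap D M _ (show TObj D M U from z) = tmap D M _ (show TObj D M U from z')
    apply Module.Flat.lTensor_preserves_injective_linearMap (M := D.S (op V)) (secLin f (op V)) (hf (op V))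
    have h1 : ∀ w : TObj D M U, (secLin f (op V)).lTensor (D.S (op V))
        (tmap D M (homOfLE (le_trans hVU inf_le_left) : V ⟶ U.unop).op w) =
        tmap D N (homOfLE (le_trans hVU inf_le_left) : V ⟶ U.unop).op ((secLin f U).lTensor (D.S U) w) := fun w =>
      congr($(((PresheafOfModules.toPresheaf _).map (Tmap D f)).naturality
        (homOfLE (le_trans hVU inf_le_left) : V ⟶ U.unop).op) w)
    exact (h1 _).trans ((congrArg _ h).trans (h1 _).symm)
  apply (SheafOfModules.toSheaf D.A).mono_of_mono_map
  haveI : Sheaf.IsLocallyInjective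
      ((presheafToSheaf (Opens.grothendieckTopology X) AddCommGrpCat.{u}).map
        ((PresheafOfModules.toPresheaf _).map (Tmap D f))) :=
    (Presheaf.isLocallyInjective_presheafToSheaf_map_iff _ _).2 inferInstance
  exact Sheaf.mono_of_isLocallyInjective
    ((presheafToSheaf (Opens.grothendieckTopology X) AddCommGrpCat.{u}).map
      ((PresheafOfModules.toPresheaf _).map (Tmap D f)))

theorem desc_comp {M N : X.Modules} {I : SheafOfModules.{u} D.A} (f : M ⟶ N) (g : N ⟶ res D I) :
    Tmap D f ≫ desc D g = desc D (f ≫ g) := by
  refine PresheafOfModules.hom_ext fun U => ModuleCat.hom_ext (LinearMap.ext fun z => ?_)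
  change descApp D g U ((secLin f U).lTensor (D.S U) z) = descApp D (f ≫ g) U z
  induction (show TObj D M U from z) using TensorProduct.induction_on with
  | zero => simp
  | tmul a m => rfl
  | add x y hx hy => simp only [map_add, hx, hy]

/-- The map back from the extension. -/
def back {M : X.Modules} {I : SheafOfModules.{u} D.A} (u : T D M ⟶ I.val) : M ⟶ res D I :=
  ⟨PresheafOfModules.homMk
    { app := fun U => AddCommGrpCat.ofHom (AddMonoidHom.mk'
        (fun m => (show I.val.obj U from (u.app U).hom (show (T D M).obj U from
          ((1 : D.S U) ⊗ₜ[X.presheaf.obj U] (show M.val.obj U from m) : TObj D M U))))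
        fun m m' => by
          refine Eq.trans (congrArg (u.app U).hom ?_) (map_add (u.app U).hom _ _)
          exact TensorProduct.tmul_add _ _ _)
      naturality := fun U V i => by
        ext m
        change (u.app V).hom _ = I.val.presheaf.map i ((u.app U).hom _)
        refine Eq.trans (congrArg (u.app V).hom ?_) (PresheafOfModules.naturality_apply u i _)
        exact (congrArg (fun a : D.S V => (a ⊗ₜ[X.presheaf.obj V] rs M i (show M.val.obj U from m) : TObj D M V))
          (map_one (D.A.obj.map i).hom)).symm }
    fun U r m => by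
      refine Eq.trans (congrArg (u.app U).hom ?_) ((u.app U).hom.map_smul (D.hom U r) _)
      change ((1 : D.S U) ⊗ₜ[X.presheaf.obj U] ((show X.presheaf.obj U from r) • (show M.val.obj U from m)) : TObj D M U) =
        D.hom U r • ((1 : D.S U) ⊗ₜ[X.presheaf.obj U] (show M.val.obj U from m) : TObj D M U)
      rw [← TensorProduct.smul_tmul, TensorProduct.smul_tmul', smul_eq_mul, mul_one, Algebra.smul_def, mul_one]
      rfl⟩

theorem back_app {M : X.Modules} {I : SheafOfModules.{u} D.A} (u : T D M ⟶ I.val) (U : (Opens X)ᵒᵖ) (m : M.val.obj U) :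
    secLin (back D u) U m = (u.app U).hom (show (T D M).obj U from ((1 : D.S U) ⊗ₜ[X.presheaf.obj U] m : TObj D M U)) :=
  rfl

/-- Restriction of scalars preserves injectives. -/
theorem injective_res (hA : FlatMod.IsFinLocFree (res D (SheafOfModules.unit D.A))) (I : SheafOfModules.{u} D.A)
    [Injective I] : Injective (res D I) := by
  constructor
  intro M N g f hf
  haveI := mono_Tmap D hA f
  let aE := PresheafOfModules.sheafificationAdjunction (R := D.A) (𝟙 D.A.obj)
  let s : (PresheafOfModules.sheafification (𝟙 D.A.obj)).obj (T D M) ⟶ I :=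
    (aE.homEquiv _ I).symm (desc D g)
  let h := Injective.factorThru s ((PresheafOfModules.sheafification (𝟙 D.A.obj)).map (Tmap D f))
  let u : T D N ⟶ I.val := aE.homEquiv _ I h
  refine ⟨back D u, ?_⟩
  have hu : Tmap D f ≫ u = desc D g := by
    refine (aE.homEquiv_naturality_left (Tmap D f) h).symm.trans ?_
    exact (congrArg (aE.homEquiv _ I) (Injective.comp_factorThru _ _)).trans (Equiv.apply_symm_apply _ _)
  refine SheafOfModules.hom_ext (PresheafOfModules.hom_ext fun U => ModuleCat.hom_ext (LinearMap.ext fun m => ?_))
  change secLin (back D u) U (secLin f U m) = secLin g U m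
  rw [back_app]
  have h1 := congr((PresheafOfModules.Hom.app $hu U).hom
    (show (T D M).obj U from ((1 : D.S U) ⊗ₜ[X.presheaf.obj U] m : TObj D M U)))
  refine h1.trans ?_
  exact one_smul (D.S U) (show I.val.obj U from secLin g U m)

end OrdResLib
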