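import Groth.Prelude.Def_FlatMod2
import Mathlib.Algebra.Category.ModuleCat.Presheaf.Sheafification
import Mathlib.Algebra.Category.ModuleCat.Sheaf.ChangeOfRings
import Mathlib.LinearAlgebra.TensorProduct.Tower

/-!
# Extension of scalars along a central map from the structure sheaf, on presheaves
-/

set_option autoImplicit false
set_option linter.style.haveILetI false
set_option maxHeartbeats 800000
set_option backward.isDefEq.respectTransparency false
universe u

open CategoryTheory CategoryTheory.Limits AlgebraicGeometry TopologicalSpace Opposite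
open scoped TensorProduct

noncomputable section

namespace OrdResLib

/-- A sheaf of algebras, given by a central map from the structure sheaf. -/
structure CAlg (X : Scheme.{u}) where
  /-- the sheaf of rings -/
  A : Sheaf (Opens.grothendieckTopology X) RingCat.{u}
  /-- the structure map -/
  φ : X.ringCatSheaf ⟶ A
  hcen : ∀ (U : (Opens X)ᵒᵖ) (s : X.ringCatSheaf.obj.obj U) (a : A.obj.obj U),
      φ.hom.app U s * a = a * φ.hom.app U s

variable {X : Scheme.{u}} (D : CAlg X)

/-- Sections of the algebra. -/
abbrev CAlg.S (U : (Opens X)ᵒᵖ) : Type u := D.A.obj.obj U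

/-- The structure map on sections. -/
def CAlg.hom (U : (Opens X)ᵒᵖ) : X.presheaf.obj U →+* D.S U := (D.φ.hom.app U).hom

instance CAlg.algebra (U : (Opens X)ᵒᵖ) : Algebra (X.presheaf.obj U) (D.S U) :=
  RingHom.toAlgebra' (D.hom U) (D.hcen U)

theorem CAlg.hom_res {U V : (Opens X)ᵒᵖ} (i : U ⟶ V) (r : X.presheaf.obj U) :
    D.hom V (X.presheaf.map i r) = D.A.obj.map i (D.hom U r) :=
  congr($(D.φ.hom.naturality i) r)

instance modSec (M : X.Modules) (U : (Opens X)ᵒᵖ) : Module (X.presheaf.obj U) (M.val.obj U) :=
  inferInstanceAs (Module (X.ringCatSheaf.obj.obj U) (M.val.obj U))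

/-- Restriction of sections. -/
def rs (M : X.Modules) {U V : (Opens X)ᵒᵖ} (i : U ⟶ V) : M.val.obj U →+ M.val.obj V :=
  (M.val.presheaf.map i).hom

theorem rs_smul (M : X.Modules) {U V : (Opens X)ᵒᵖ} (i : U ⟶ V) (r : X.presheaf.obj U) (m : M.val.obj U) :
    rs M i (r • m) = X.presheaf.map i r • rs M i m :=
  M.val.map_smul i r m

/-- Sections of the extension. -/
abbrev TObj (M : X.Modules) (U : (Opens X)ᵒᵖ) : Type u := D.S U ⊗[X.presheaf.obj U] (M.val.obj U)

/-- Restriction of the extension. -/
def tmap (M : X.Modules) {U V : (Opens X)ᵒᵖ} (i : U ⟶ V) : TObj D M U →+ TObj D M V :=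
  TensorProduct.liftAddHom
    (AddMonoidHom.mk' (fun a => AddMonoidHom.mk' (fun m => D.A.obj.map i a ⊗ₜ rs M i m)
      fun m m' => by
        rw [← TensorProduct.tmul_add]
        exact congrArg _ (map_add (rs M i) m m'))
      fun a a' => AddMonoidHom.ext fun m => by
        change D.A.obj.map i (a + a') ⊗ₜ[X.presheaf.obj V] _ = _ + _
        rw [map_add, TensorProduct.add_tmul]
        rfl)
    fun r a m => by
      change D.A.obj.map i (D.hom U r * a) ⊗ₜ[X.presheaf.obj V] rs M i m =
        D.A.obj.map i a ⊗ₜ rs M i (r • m)
      rw [map_mul, ← D.hom_res, rs_smul, ← TensorProduct.smul_tmul]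
      rfl

@[simp]
theorem tmap_tmul (M : X.Modules) {U V : (Opens X)ᵒᵖ} (i : U ⟶ V) (a : D.S U) (m : M.val.obj U) :
    tmap D M i (a ⊗ₜ m) = D.A.obj.map i a ⊗ₜ rs M i m := rfl

/-- The presheaf of abelian groups of the extension. -/
def tPre (M : X.Modules) : (Opens X)ᵒᵖ ⥤ Ab.{u} where
  obj U := AddCommGrpCat.of (TObj D M U)
  map i := AddCommGrpCat.ofHom (tmap D M i)
  map_id U := by
    ext z
    change tmap D M (𝟙 U) z = z
    induction z using TensorProduct.induction_on with
    | zero => exact map_zero _
    | tmul a m =>
      rw [tmap_tmul, D.A.obj.map_id]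
      exact congrArg (fun w : M.val.obj U => (a ⊗ₜ[X.presheaf.obj U] w : TObj D M U))
        (congr($(M.val.presheaf.map_id U) m))
    | add x y hx hy => rw [map_add, hx, hy]
  map_comp {U V W} i j := by
    ext z
    change tmap D M (i ≫ j) z = tmap D M j (tmap D M i z)
    induction z using TensorProduct.induction_on with
    | zero => simp
    | tmul a m =>
      rw [tmap_tmul, tmap_tmul, tmap_tmul, D.A.obj.map_comp]
      exact congrArg (fun w : M.val.obj W => (D.A.obj.map j (D.A.obj.map i a) ⊗ₜ[X.presheaf.obj W] w : TObj D M W))
        (congr($(M.val.presheaf.map_comp i j) m))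
    | add x y hx hy => simp only [map_add, hx, hy]

instance tPreModule (M : X.Modules) (U : (Opens X)ᵒᵖ) : Module (D.A.obj.obj U) ((tPre D M).obj U) :=
  inferInstanceAs (Module (D.S U) (TObj D M U))

theorem tmap_smul (M : X.Modules) {U V : (Opens X)ᵒᵖ} (i : U ⟶ V) (r : D.S U) (z : TObj D M U) :
    tmap D M i (r • z) = D.A.obj.map i r • tmap D M i z := by
  induction z using TensorProduct.induction_on with
  | zero => simp
  | tmul a m => rw [TensorProduct.smul_tmul', tmap_tmul, tmap_tmul, TensorProduct.smul_tmul', smul_eq_mul, map_mul]; rfl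
  | add x y hx hy => simp only [smul_add, map_add, hx, hy]

/-- The extension as a presheaf of modules. -/
def T (M : X.Modules) : PresheafOfModules.{u} D.A.obj :=
  PresheafOfModules.ofPresheaf (tPre D M) fun _ _ i r z => tmap_smul D M i r z

/-- A map of modules on sections, linear over the structure sheaf. -/
def secLin {M N : X.Modules} (f : M ⟶ N) (U : (Opens X)ᵒᵖ) : M.val.obj U →ₗ[X.presheaf.obj U] N.val.obj U :=
  (f.val.app U).hom

theorem secLin_res {M N : X.Modules} (f : M ⟶ N) {U V : (Opens X)ᵒᵖ} (i : U ⟶ V) (m : M.val.obj U) :
    secLin f V (rs M i m) = rs N i (secLin f U m) :=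
  PresheafOfModules.naturality_apply f.val i m

/-- Functoriality. -/
def Tmap {M N : X.Modules} (f : M ⟶ N) : T D M ⟶ T D N :=
  PresheafOfModules.homMk
    { app := fun U => AddCommGrpCat.ofHom ((secLin f U).lTensor (D.S U)).toAddMonoidHom
      naturality := fun U V i => by
        ext z
        change (secLin f V).lTensor (D.S V) (tmap D M i z) = tmap D N i ((secLin f U).lTensor (D.S U) z)
        induction z using TensorProduct.induction_on with
        | zero => simp
        | tmul a m =>
          rw [tmap_tmul, LinearMap.lTensor_tmul, LinearMap.lTensor_tmul, tmap_tmul, secLin_res]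
        | add x y hx hy => simp only [map_add, hx, hy] }
    fun U r z => by
      change (secLin f U).lTensor (D.S U) ((show D.S U from r) • (show TObj D M U from z)) =
        (show D.S U from r) • (secLin f U).lTensor (D.S U) z
      revert z; intro (z : TObj D M U); induction z using TensorProduct.induction_on with
      | zero => simp
      | tmul a m => rw [TensorProduct.smul_tmul', LinearMap.lTensor_tmul, LinearMap.lTensor_tmul, TensorProduct.smul_tmul']
      | add x y hx hy => simp only [smul_add, map_add, hx, hy]

theorem Tmap_app {M N : X.Modules} (f : M ⟶ N) (U : (Opens X)ᵒᵖ) (z : TObj D M U) :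
    ((Tmap D f).app U).hom z = (secLin f U).lTensor (D.S U) z := rfl

/-- The structure sheaf module underlying a module over the algebra. -/
abbrev res (N : SheafOfModules.{u} D.A) : X.Modules := (SheafOfModules.restrictScalars D.φ).obj N

/-- The evaluation attached to a map into a restricted module, on sections. -/
def descApp {M : X.Modules} {N : SheafOfModules.{u} D.A} (g : M ⟶ res D N) (U : (Opens X)ᵒᵖ) :
    TObj D M U →+ N.val.obj U :=
  TensorProduct.liftAddHom
    (AddMonoidHom.mk' (fun a => AddMonoidHom.mk' (fun m => a • (show N.val.obj U from secLin g U m))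
      fun m m' => by
        rw [← smul_add]
        exact congrArg _ (map_add (secLin g U) m m'))
      fun a a' => AddMonoidHom.ext fun m => add_smul a a' (show N.val.obj U from secLin g U m))
    fun r a m => by
      change (D.hom U r * a) • (show N.val.obj U from secLin g U m) =
        a • (show N.val.obj U from secLin g U (r • m))
      rw [show D.hom U r * a = a * D.hom U r from D.hcen U r a, mul_smul]
      exact congrArg _ (map_smul (secLin g U) r m).symm

theorem descApp_tmul {M : X.Modules} {N : SheafOfModules.{u} D.A} (g : M ⟶ res D N) (U : (Opens X)ᵒᵖ)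
    (a : D.S U) (m : M.val.obj U) :
    descApp D g U (a ⊗ₜ m) = a • (show N.val.obj U from secLin g U m) := rfl

/-- The evaluation attached to a map into a restricted module. -/
def desc {M : X.Modules} {N : SheafOfModules.{u} D.A} (g : M ⟶ res D N) : T D M ⟶ N.val :=
  PresheafOfModules.homMk
    { app := fun U => AddCommGrpCat.ofHom (descApp D g U)
      naturality := fun U V i => by
        ext z
        change descApp D g V (tmap D M i z) = N.val.presheaf.map i (descApp D g U z)
        induction z using TensorProduct.induction_on with
        | zero =>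
          rw [map_zero, map_zero, map_zero]
          exact (map_zero (N.val.presheaf.map i).hom).symm
        | tmul a m =>
          rw [tmap_tmul, descApp_tmul, descApp_tmul]
          refine Eq.trans ?_ (N.val.map_smul i a _).symm
          exact congrArg (D.A.obj.map i a • ·) (secLin_res g i m)
        | add x y hx hy => simp only [map_add, hx, hy] }
    fun U r z => by
      change descApp D g U ((show D.S U from r) • (show TObj D M U from z)) = (show D.S U from r) • descApp D g U z
      revert z; intro (z : TObj D M U); induction z using TensorProduct.induction_on with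
      | zero => simp
      | tmul a m =>
        rw [TensorProduct.smul_tmul', descApp_tmul, descApp_tmul, smul_smul]
        rfl
      | add x y hx hy => simp only [smul_add, map_add, hx, hy]

theorem desc_app {M : X.Modules} {N : SheafOfModules.{u} D.A} (g : M ⟶ res D N) (U : (Opens X)ᵒᵖ) (z : TObj D M U) :
    ((desc D g).app U).hom z = descApp D g U z := rfl

end OrdResLib
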